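import Cfsg.Agent.H103.GT.Coord
import Cfsg.Agent.H710.GT.EFiveC
import Cfsg.Agent.H52.PU.StFF
import Cfsg.Agent.H104.PU.Gen
import Cfsg.Agent.Lib.FrattiniPGroup

/-!
# S5211 (E3-1): `p = 3`, essential subgroups containing `J = Z₄` (helper7)

* `ess_ne` : an essential subgroup is proper;
* `stE31 : StDual → StE31`.
-/

set_option autoImplicit false

namespace Cfsg.Agent.H7.GT

open Cfsg Cfsg.FusionSystem Cfsg.Agent.H779.G2 Cfsg.Agent.H756.PU Cfsg.Agent.H103.GT Cfsg.Agent.H710.GT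

universe u

/-- an essential subgroup is proper -/
theorem ess_ne {Ω : Type*} [Group Ω] {S E : Subgroup Ω} {p : ℕ} {Γ : Subgroup (MulAut E)} (hE : Ess S E p Γ) :
    ¬ S ≤ E := by
  intro h
  obtain ⟨H, -, -, -, hn, -⟩ := hE.spe
  apply hn
  intro α hα
  obtain ⟨g, hg, h1⟩ := (H802.mem_autInducedBy_iff _ _ _).1 hα
  refine ⟨⟨g, h hg⟩, ?_⟩
  ext x
  rw [h1]
  rfl

/-- a subgroup normalized by everything is normalized by `S` -/
theorem norm_top {Ω : Type*} [Group Ω] {E A : Subgroup Ω} (h : ∀ x ∈ A, ∀ y ∈ E, x * y * x⁻¹ ∈ E) :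
    A ≤ normalizerIn ⊤ E := by
  intro x hx
  refine Subgroup.mem_inf.mpr ⟨trivial, Subgroup.mem_normalizer_iff.mpr fun y => ⟨h x hx y, fun hy => ?_⟩⟩
  have h1 := h x⁻¹ (inv_mem hx) _ hy
  rwa [show x⁻¹ * (x * y * x⁻¹) * x⁻¹⁻¹ = y by group] at h1

/-- `[A, E] ≤ E` implies that `A` normalizes `E` -/
theorem norm_of_com {Ω : Type*} [Group Ω] {E A : Subgroup Ω} (h : Com A E E) : A ≤ normalizerIn ⊤ E :=
  norm_top fun x hx y hy => by
    have h1 := mul_mem (h x hx y hy) hy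
    rwa [show x * y * x⁻¹ * y⁻¹ * y = x * y * x⁻¹ by group] at h1

section
variable {K : Type u} [Field K]

theorem three_eq {n : ℕ} (h : HypG K 3 n) : (3 : K) = 0 := by
  have := h.char
  exact_mod_cast CharP.cast_eq_zero K 3

/-- `X_{2α+β} X_{3α+2β}`, the centre for `p = 3` -/
def Z46 (K : Type u) [Field K] : Subgroup (GU K) where
  carrier := {g | g.a = 0 ∧ g.b = 0 ∧ g.c = 0 ∧ g.e = 0}
  one_mem' := by simp
  mul_mem' := by
    rintro x y ⟨h1, h2, h3, h4⟩ ⟨k1, k2, k3, k4⟩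
    refine ⟨?_, ?_, ?_, ?_⟩
    · rw [GU.mul_a, h1, k1, add_zero]
    · rw [GU.mul_b, h2, k2, add_zero]
    · rw [GU.mul_c, h3, k3, h2]; ring
    · rw [GU.mul_e, h4, k4, h2, h3, k1]; ring
  inv_mem' := by
    rintro x ⟨h1, h2, h3, h4⟩
    refine ⟨?_, ?_, ?_, ?_⟩
    · rw [GU.inv_a, h1, neg_zero]
    · rw [GU.inv_b, h2, neg_zero]
    · rw [GU.inv_c, h3, h2]; ring
    · rw [GU.inv_e, h4, h1]; ring

/-- `X_{2α+β}` -/
def X4 (K : Type u) [Field K] : Subgroup (GU K) where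
  carrier := {g | g.a = 0 ∧ g.b = 0 ∧ g.c = 0 ∧ g.e = 0 ∧ g.f = 0}
  one_mem' := by simp
  mul_mem' := by
    rintro x y ⟨h1, h2, h3, h4, h5⟩ ⟨k1, k2, k3, k4, k5⟩
    refine ⟨?_, ?_, ?_, ?_, ?_⟩
    · rw [GU.mul_a, h1, k1, add_zero]
    · rw [GU.mul_b, h2, k2, add_zero]
    · rw [GU.mul_c, h3, k3, h2]; ring
    · rw [GU.mul_e, h4, k4, h2, h3, k1]; ring
    · rw [GU.mul_f, h2, h3, h4, h5, k1, k2, k3, k5]; ring
  inv_mem' := by
    rintro x ⟨h1, h2, h3, h4, h5⟩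
    refine ⟨?_, ?_, ?_, ?_, ?_⟩
    · rw [GU.inv_a, h1, neg_zero]
    · rw [GU.inv_b, h2, neg_zero]
    · rw [GU.inv_c, h3, h2]; ring
    · rw [GU.inv_e, h4, h1]; ring
    · rw [GU.inv_f, h1, h2, h3, h5]; ring

theorem mem_Z46 {x : GU K} : x ∈ Z46 K ↔ x.a = 0 ∧ x.b = 0 ∧ x.c = 0 ∧ x.e = 0 := Iff.rfl

theorem Z46_le_Z4 : Z46 K ≤ Z4 K := fun _ h => ⟨h.1, h.2.1⟩

theorem Z46_central (h3 : (3 : K) = 0) {x : GU K} (hx : x ∈ Z46 K) (y : GU K) : x * y = y * x :=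
  (cent_top_three h3).2 hx y

/-- `p = 3`: `[S, Z₄] ≤ X₄X₆` -/
theorem com_top_Z46 (h3 : (3 : K) = 0) : Com ⊤ (Z4 K) (Z46 K) := by
  intro x _ y hy
  obtain ⟨qa, qb⟩ := mem_Z4.1 hy
  refine ⟨cm_a x y, cm_b x y, ?_, ?_⟩
  · rw [cm_c, qa, qb]; ring
  · rw [cm_e, qa, qb]; linear_combination (-x.a * y.d + x.a ^ 2 * y.c) * h3

/-- `p = 3`: the centralizer in `Z₄` of an element with `a, b ≠ 0` -/
theorem mem_Z46_of_comm (h3 : (3 : K) = 0) {x z : GU K} (ha : x.a ≠ 0) (hb : x.b ≠ 0)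
    (hz : z ∈ Z4 K) (h : x * z = z * x) : z ∈ Z46 K := by
  obtain ⟨qa, qb⟩ := mem_Z4.1 hz
  have h1 := (comm_iff _ _).1 h
  rw [cm_d, cm_f] at h1
  obtain ⟨-, h4, -, h6⟩ := h1
  rw [qa, qb] at h4 h6
  refine ⟨qa, qb, ?_, ?_⟩
  · apply mul_left_cancel₀ ha
    linear_combination h4 + x.a * z.c * h3
  · apply mul_left_cancel₀ hb
    linear_combination h6 - (x.a * z.c ^ 2 - x.c * z.d + x.d * z.c) * h3

/-- `p = 3`: an element with `a ≠ 0` centralizes only elements of `Z₄` with `c = 0` -/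
theorem c_of_comm (h3 : (3 : K) = 0) {x z : GU K} (ha : x.a ≠ 0) (hz : z ∈ Z4 K) (h : x * z = z * x) : z.c = 0 := by
  obtain ⟨qa, qb⟩ := mem_Z4.1 hz
  have h1 := (comm_iff _ _).1 h
  rw [cm_d] at h1
  obtain ⟨-, h4, -, -⟩ := h1
  rw [qa, qb] at h4
  apply mul_left_cancel₀ ha
  linear_combination h4 + x.a * z.c * h3

/-- `p = 3`: an element with `b ≠ 0` centralizes only elements of `Z₄` with `e = 0` -/
theorem e_of_comm (h3 : (3 : K) = 0) {x z : GU K} (hb : x.b ≠ 0) (hz : z ∈ Z4 K) (h : x * z = z * x) : z.e = 0 := by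
  obtain ⟨qa, qb⟩ := mem_Z4.1 hz
  have h1 := (comm_iff _ _).1 h
  rw [cm_f] at h1
  obtain ⟨-, -, -, h6⟩ := h1
  rw [qa, qb] at h6
  apply mul_left_cancel₀ hb
  linear_combination h6 - (x.a * z.c ^ 2 - x.c * z.d + x.d * z.c) * h3

/-- `p = 3`: cubes in `Q_b` -/
theorem cube_mem (h3 : (3 : K) = 0) {x : GU K} (hx : x ∈ Qb K) : x ^ 3 ∈ Z4 K := by
  have hb : x.b = 0 := hx
  have e1 : x ^ 3 = x * x * x := by rw [pow_succ, pow_two]
  rw [e1]
  refine ⟨?_, ?_⟩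
  · simp only [GU.mul_a]; linear_combination x.a * h3
  · simp only [GU.mul_b, hb]; ring

theorem cube_one (h3 : (3 : K) = 0) {x : GU K} (hx : x ∈ Z4 K) : x ^ 3 = 1 := by
  obtain ⟨ha, hb⟩ := mem_Z4.1 hx
  have e1 : x ^ 3 = x * x * x := by rw [pow_succ, pow_two]
  rw [e1]
  ext
  all_goals simp only [GU.mul_a, GU.mul_b, GU.mul_c, GU.mul_d, GU.mul_e, GU.mul_f, GU.one_a, GU.one_b, GU.one_c,
    GU.one_d, GU.one_e, GU.one_f, ha, hb]
  · ring
  · ring
  · linear_combination x.c * h3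
  · linear_combination x.d * h3
  · linear_combination x.e * h3
  · linear_combination (x.f + 3 * x.c * x.d) * h3

/-- coordinates of `Z46` -/
def equiv_Z46 : Z46 K ≃ K × K where
  toFun x := ((x : GU K).d, (x : GU K).f)
  invFun y := ⟨⟨0, 0, 0, y.1, 0, y.2⟩, ⟨rfl, rfl, rfl, rfl⟩⟩
  left_inv x := by
    apply Subtype.ext
    obtain ⟨ha, hb, hc, hd⟩ := mem_Z46.1 x.2
    ext
    · exact ha.symm
    · exact hb.symm
    · exact hc.symm
    · rfl
    · exact hd.symm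
    · rfl
  right_inv y := rfl

theorem card_Z46 [Finite K] : Nat.card (Z46 K) = Nat.card K ^ 2 := by
  rw [Nat.card_congr equiv_Z46]
  simp only [Nat.card_prod]
  ring

/-- the case `E = Z₄` -/
theorem ne_Z4 {n : ℕ} (hG : HypG K 3 n) {Γ : Subgroup (MulAut (Z4 K))} (hE : Ess (⊤ : Subgroup (GU K)) (Z4 K) 3 Γ) :
    False := by
  have h3 := three_eq hG
  have := hG.fin
  have hX : Z46 K ≤ hull Γ (Z46 K) := H104.PU.le_hull Z46_le_Z4
  have hM : hull Γ (Z46 K) ≤ Z4 K := H104.PU.hull_le _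
  have hN : normalizerIn ⊤ (Z4 K) = ⊤ := top_unique (norm_of_com fun x _ y hy => Z46_le_Z4 (com_top_Z46 h3 x trivial y hy))
  have hQ : ¬ Qb K ≤ Z4 K := by
    intro h
    have h1 : (x1 1 : GU K) ∈ Z4 K := h (x1_mem 1)
    exact one_ne_zero h1.1
  have key := H52.PU.stFF hE ⊥ (hull Γ (Z46 K)) (Z46 K) (Qb K) (inv_bot Γ) (H104.PU.inv_hull _) bot_le hX
    (fun x hx y hy => cm_one.2 (comm_Z4 h3 hx (hM hy))) (fun x hx => Subgroup.mem_bot.2 (cube_one h3 (hM hx)))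
    (sup_bot_eq _).symm (fun x _ y hy => cm_one.2 (Z46_central h3 hy x).symm)
    (by rw [hN]; exact le_top) hQ (fun x hx y hy => Z3_le_Z4 (com_Qb x hx y hy))
    (fun x hx => cube_mem h3 hx) (fun x _ y hy => hX (com_top_Z46 h3 x trivial y hy))
    (fun x _ y hy => by rw [Subgroup.mem_bot.1 hy, mul_one, one_mul]) ?_
  · obtain ⟨h1, -⟩ := key
    rw [hN, sup_eq_right.2 Z4_le_Qb] at h1
    have h2 : (x2 1 : GU K) ∈ Qb K := h1 ▸ trivial
    exact one_ne_zero (h2 : (1 : K) = 0)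
  · have h4 : (Z4 K).relIndex (Qb K) = Nat.card K :=
      relIndex_eq Z4_le_Qb card_Z4 card_Qb (by ring) (Nat.pow_pos Nat.card_pos)
    have h5 : (Z3 K).relIndex (Z4 K) = Nat.card K :=
      relIndex_eq Z3_le_Z4 card_Z3 card_Z4 (by ring) (Nat.pow_pos Nat.card_pos)
    have h6 : Z3 K ⊓ hull Γ (Z46 K) ≤ cmod (Qb K) (hull Γ (Z46 K)) ⊥ := by
      intro x hx
      exact Subgroup.subset_closure ⟨hx.2, fun a ha => cm_one.2 (comm_Qb_Z3 h3 ha hx.1)⟩
    calc (cmod (Qb K) (hull Γ (Z46 K)) ⊥).relIndex (hull Γ (Z46 K))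
        ≤ (Z3 K ⊓ hull Γ (Z46 K)).relIndex (hull Γ (Z46 K)) :=
          Subgroup.relIndex_le_of_le_left h6 (Subgroup.index_ne_zero_of_finite)
      _ = (Z3 K).relIndex (hull Γ (Z46 K)) := Subgroup.inf_relIndex_right _ _
      _ ≤ (Z3 K).relIndex (Z4 K) := Subgroup.relIndex_le_of_le_right hM (Subgroup.index_ne_zero_of_finite)
      _ = (Z4 K).relIndex (Qb K) := by rw [h4, h5]

/-- the generic step: commutators in the Frattini subgroup -/
theorem le_of_dual (hd : StDual.{u}) {n : ℕ} (hG : HypG K 3 n) {E : Subgroup (GU K)} {Γ : Subgroup (MulAut E)}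
    (hE : Ess (⊤ : Subgroup (GU K)) E 3 Γ) (Q W : Subgroup (GU K)) (hW : W ≤ E) (hc : Com Q E W)
    (hWF : ∀ w ∈ W, ∃ x ∈ E, ∃ y ∈ E, x * y * x⁻¹ * y⁻¹ = w) : Q ≤ E := by
  have := hG.fin
  have : Fact (Nat.Prime 3) := ⟨Nat.prime_three⟩
  have hEp : IsPGroup 3 E := hE.pgr.to_le hE.E_le
  have h1 := hd hE ⊥ Q (norm_of_com fun x hx y hy => hW (hc x hx y hy)) bot_le (by
    intro a ha m hm
    refine (le_sup_right : _ ≤ (⊥ : Subgroup (GU K)) ⊔ _) ?_
    obtain ⟨x, hx, y, hy, h2⟩ := hWF _ (hc a ha m hm)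
    have h3 : (⟨x, hx⟩ * ⟨y, hy⟩ * (⟨x, hx⟩ : E)⁻¹ * (⟨y, hy⟩ : E)⁻¹ : E) ∈ frattini E :=
      Lib.FrattiniPGroup.commutator_le_frattini hEp
        (Subgroup.commutator_mem_commutator (Subgroup.mem_top _) (Subgroup.mem_top _))
    rw [← h2]
    exact Subgroup.mem_map.2 ⟨_, h3, rfl⟩)
  rw [bot_sup_eq, Subgroup.relIndex_self] at h1
  have h2 : E.relIndex Q = 1 := le_antisymm h1 (Nat.one_le_iff_ne_zero.mpr Subgroup.index_ne_zero_of_finite)
  exact Subgroup.relIndex_eq_one.mp h2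

/-- the case `E ≰ Q_a, Q_b` -/
theorem mixed {n : ℕ} (hG : HypG K 3 n) {E : Subgroup (GU K)} {Γ : Subgroup (MulAut E)}
    (hE : Ess (⊤ : Subgroup (GU K)) E 3 Γ) (hJ : Z4 K ≤ E) (hb : ¬ E ≤ Qb K) (ha : ¬ E ≤ Qa K) : False := by
  have h3 := three_eq hG
  have := hG.fin
  obtain ⟨x, hx, xa, xb⟩ := exists_both hb ha
  have iE := inv_self Γ (E := E)
  -- the centre
  have i1 : Inv Γ (Z46 K) := by
    refine inv_cent iE iE (inv_bot Γ) fun y => ⟨fun hy => ?_, fun hy => ?_⟩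
    · exact ⟨hJ (Z46_le_Z4 hy), fun b _ => cm_one.2 (Z46_central h3 hy b)⟩
    · obtain ⟨-, hc⟩ := hy
      have hy4 : y ∈ Z4 K := (cent_Z4_three h3).1 fun z hz => cm_one.1 (hc z (hJ hz))
      exact mem_Z46_of_comm h3 xa xb hy4 (cm_one.1 (hc x hx)).symm
  -- `J`
  have i2 : Inv Γ (Z4 K) := by
    refine ⟨hJ, fun γ hγ e he => ?_⟩
    by_contra hno
    -- the image `J'` of `J`
    set J' : Subgroup (GU K) := (((Z4 K).subgroupOf E).map γ.toMonoidHom).map E.subtype with hJ'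
    have mJ : ∀ y, y ∈ J' ↔ ∃ z : E, (z : GU K) ∈ Z4 K ∧ ((γ z : E) : GU K) = y := by
      intro y
      constructor
      · rintro ⟨_, ⟨z, hz, rfl⟩, rfl⟩
        exact ⟨z, hz, rfl⟩
      · rintro ⟨z, hz, rfl⟩
        exact ⟨_, ⟨z, hz, rfl⟩, rfl⟩
    have ab : ∀ y ∈ J', ∀ z ∈ J', y * z = z * y := by
      intro y hy z hz
      obtain ⟨y', hy', rfl⟩ := (mJ _).1 hy
      obtain ⟨z', hz', rfl⟩ := (mJ _).1 hz
      have h1 : y' * z' = z' * y' := Subtype.ext (comm_Z4 h3 hy' hz')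
      have h2 := congrArg (fun t : E => ((γ t : E) : GU K)) h1
      simpa using h2
    have nJ : ∀ y ∈ J', ∀ z ∈ E, y * z * y⁻¹ * z⁻¹ ∈ J' := by
      intro y hy z hz
      obtain ⟨y', hy', rfl⟩ := (mJ _).1 hy
      refine (mJ _).2 ⟨y' * (γ⁻¹ ⟨z, hz⟩) * y'⁻¹ * (γ⁻¹ ⟨z, hz⟩)⁻¹, ?_, ?_⟩
      · have h1 := com_Z4_top _ hy' _ (Subgroup.mem_top ((γ⁻¹ ⟨z, hz⟩ : E) : GU K))
        exact Z3_le_Z4 h1
      · rw [map_mul, map_mul, map_mul, map_inv, map_inv, MulAut.apply_inv_self E γ ⟨z, hz⟩]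
        rfl
    have he' : ((γ e : E) : GU K) ∈ J' := (mJ _).2 ⟨e, he, rfl⟩
    have cJ : Nat.card J' = Nat.card K ^ 4 := by
      rw [← card_Z4 (K := K)]
      refine (Nat.card_congr (Equiv.ofBijective (fun z : Z4 K =>
        (⟨((γ ⟨z, hJ z.2⟩ : E) : GU K), (mJ _).2 ⟨⟨z, hJ z.2⟩, z.2, rfl⟩⟩ : J')) ⟨?_, ?_⟩)).symm
      · intro y z hyz
        have h1 : ((γ ⟨y, hJ y.2⟩ : E) : GU K) = ((γ ⟨z, hJ z.2⟩ : E) : GU K) := congrArg (fun t : J' => (t : GU K)) hyz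
        have h2 := γ.injective (Subtype.ext h1)
        exact Subtype.ext (congrArg (fun t : E => (t : GU K)) h2)
      · rintro ⟨y, hy⟩
        obtain ⟨z, hz, h1⟩ := (mJ _).1 hy
        exact ⟨⟨z, hz⟩, Subtype.ext h1⟩
    by_cases hq : ∃ j ∈ J', j.a ≠ 0 ∧ j.b ≠ 0
    · -- then `E = S`
      obtain ⟨j, hj, ja, jb⟩ := hq
      have hI : Z4 K ⊓ J' ≤ Z46 K := fun y hy => mem_Z46_of_comm h3 ja jb hy.1 (ab j hj y hy.2)
      have hcI : Nat.card (Z4 K ⊓ J' : Subgroup (GU K)) ≤ Nat.card K ^ 2 := by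
        rw [← card_Z46 (K := K)]
        exact Subgroup.card_le_of_le hI
      have e1 : Nat.card (Z4 K ⊓ J' : Subgroup (GU K)) * (Z4 K ⊓ J').relIndex J' = Nat.card J' := by
        rw [← Subgroup.relIndex_bot_left, ← Subgroup.relIndex_bot_left]
        exact Subgroup.relIndex_mul_relIndex _ _ _ bot_le inf_le_right
      rw [Subgroup.inf_relIndex_right, cJ] at e1
      have e2 : Nat.card (Z4 K) * (Z4 K).relIndex (Z4 K ⊔ J') = Nat.card (Z4 K ⊔ J' : Subgroup (GU K)) := by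
        rw [← Subgroup.relIndex_bot_left, ← Subgroup.relIndex_bot_left]
        exact Subgroup.relIndex_mul_relIndex _ _ _ bot_le le_sup_left
      rw [Subgroup.relIndex_sup_left, card_Z4] at e2
      have e3 : Z4 K ⊔ J' ≤ E := by
        refine sup_le hJ ?_
        intro y hy
        obtain ⟨z, hz, rfl⟩ := (mJ _).1 hy
        exact (γ z).2
      have hqp : 0 < Nat.card K := Nat.card_pos
      have e4 : Nat.card K ^ 2 ≤ (Z4 K).relIndex J' := by
        by_contra h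
        push Not at h
        have h1 : Nat.card (Z4 K ⊓ J' : Subgroup (GU K)) * (Z4 K).relIndex J' < Nat.card K ^ 2 * Nat.card K ^ 2 :=
          Nat.mul_lt_mul_of_le_of_lt hcI h (Nat.pow_pos hqp)
        rw [e1] at h1
        exact absurd h1 (by rw [← pow_add]; exact lt_irrefl _)
      have e5 : Nat.card (GU K) ≤ Nat.card (Z4 K ⊔ J' : Subgroup (GU K)) := by
        rw [← e2, GU.card_eq, show Nat.card K ^ 6 = Nat.card K ^ 4 * Nat.card K ^ 2 by ring]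
        exact Nat.mul_le_mul_left _ e4
      have e6 : (Z4 K ⊔ J' : Subgroup (GU K)) = ⊤ := Subgroup.eq_top_of_le_card _ e5
      exact ess_ne hE (e6 ▸ e3)
    · push Not at hq
      by_cases hea : ((γ e : E) : GU K).a = 0
      · have heb : ((γ e : E) : GU K).b ≠ 0 := fun h => hno ⟨hea, h⟩
        have h1 := nJ _ he' x hx
        have h2 : ((γ e : E) : GU K) * x * ((γ e : E) : GU K)⁻¹ * x⁻¹ ∈ Z4 K := com_top_top _ trivial _ trivial
        have h4 := e_of_comm h3 heb h2 (ab _ he' _ h1)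
        rw [cm_e, hea] at h4
        have h5 : ((γ e : E) : GU K).b * x.a ^ 3 = 0 := by
          linear_combination h4 + (((γ e : E) : GU K).c * x.a ^ 2 - ((γ e : E) : GU K).d * x.a) * h3
        rcases mul_eq_zero.1 h5 with h6 | h6
        · exact heb h6
        · exact xa (pow_eq_zero_iff (by norm_num) |>.1 h6)
      · have h1 := nJ _ he' x hx
        have heb : ((γ e : E) : GU K).b = 0 := hq _ he' hea
        have h2 : ((γ e : E) : GU K) * x * ((γ e : E) : GU K)⁻¹ * x⁻¹ ∈ Z4 K := com_top_top _ trivial _ trivial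
        have h4 := c_of_comm h3 hea h2 (ab _ he' _ h1)
        rw [cm_c, heb] at h4
        have h5 : ((γ e : E) : GU K).a * x.b = 0 := by linear_combination -h4
        rcases mul_eq_zero.1 h5 with h6 | h6
        · exact hea h6
        · exact xb h6
  have h7 : (⊤ : Subgroup (GU K)) ≤ E :=
    H732.PU.stChain hE (Z46 K) (Z4 K) (Z4 K) i1 i2 i2 Z46_le_Z4 le_rfl ⊤ le_rfl
      (fun x _ y _ => com_top_top x trivial y trivial)
      (fun x _ y hy => Z46_le_Z4 (com_top_Z46 h3 x trivial y hy))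
      (com_top_Z46 h3) (fun x _ m hm => (Z46_central h3 hm x).symm)
  exact ess_ne hE h7

end

/-- (E3-1) `p = 3`, `J ≤ E` -/
theorem stE31 (hd : StDual.{u}) : StE31.{u} := by
  intro K _ n hG E Γ hE hJ
  have h3 := three_eq hG
  by_cases hb : E ≤ Qb K
  · by_cases ha : E ≤ Qa K
    · exfalso
      obtain rfl : E = Z4 K := le_antisymm (Qa_inf_Qb (K := K) ▸ le_inf ha hb) hJ
      exact ne_Z4 hG hE
    · right
      obtain ⟨x, hx, hxa⟩ := SetLike.not_le_iff_exists.1 ha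
      have xa : x.a ≠ 0 := hxa
      have xb : x.b = 0 := hb hx
      refine le_antisymm hb (le_of_dual hd hG hE (Qb K) (X4 K) (fun y hy => hJ ⟨hy.1, hy.2.1⟩) ?_ ?_)
      · intro y hy z hz
        have yb : y.b = 0 := hy
        have zb : z.b = 0 := hb hz
        refine ⟨cm_a y z, cm_b y z, ?_, ?_, ?_⟩
        · rw [cm_c, yb, zb]; ring
        · rw [cm_e, yb, zb]
          linear_combination (-2 * y.a * y.c * z.a + 2 * y.a * z.a * z.c - y.a * z.d + y.a ^ 2 * z.c - y.c * z.a ^ 2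
            + y.d * z.a) * h3
        · rw [cm_f, yb, zb]
          linear_combination (y.a * z.c ^ 2 - y.c * z.d - y.c ^ 2 * z.a + y.d * z.c) * h3
      · intro w hw
        obtain ⟨w1, w2, w3, w4, w5⟩ := hw
        have h2 : (2 : K) ≠ 0 := fun h => one_ne_zero (α := K) (by linear_combination h3 - h)
        refine ⟨x, hx, x3 (- w.d / (2 * x.a)), hJ (x3_mem _), ?_⟩
        ext
        · rw [cm_a, w1]
        · rw [cm_b, w2]
        · rw [cm_c, w3, xb]; simp only [x3]; ring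
        · rw [cm_d, xb]; simp only [x3]; field_simp; ring
        · rw [cm_e, w4, xb]; simp only [x3]; linear_combination (x.a ^ 2 * (- w.d / (2 * x.a))) * h3
        · rw [cm_f, w5, xb]; simp only [x3]
          linear_combination (x.a * (- w.d / (2 * x.a)) ^ 2 + x.d * (- w.d / (2 * x.a))) * h3
  · by_cases ha : E ≤ Qa K
    · left
      obtain ⟨x, hx, hxb⟩ := SetLike.not_le_iff_exists.1 hb
      have xb : x.b ≠ 0 := hxb
      have xa : x.a = 0 := ha hx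
      refine le_antisymm ha (le_of_dual hd hG hE (Qa K) (Z1 K) (fun y hy => hJ (Z1_le_Z4 hy))
        (fun y hy z hz => com_Qa y hy z (ha hz)) ?_)
      intro w hw
      obtain ⟨w1, w2, w3, w4, w5⟩ := mem_Z1.1 hw
      refine ⟨x, hx, x5 (w.f / x.b), hJ (Z2_le_Z4 (x5_mem _)), ?_⟩
      ext
      · rw [cm_a, w1]
      · rw [cm_b, w2]
      · rw [cm_c, w3, xa]; simp only [x5]; ring
      · rw [cm_d, w4, xa]; simp only [x5]; ring
      · rw [cm_e, w5, xa]; simp only [x5]; ring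
      · rw [cm_f, xa]; simp only [x5]; field_simp; ring
    · exact (mixed hG hE hJ hb ha).elim

end Cfsg.Agent.H7.GT
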